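import Cfsg.Agent.H972.CS.LinkOf_m3
import Cfsg.Agent.H849.OZ.Bad_m3
import Cfsg.Agent.H209.EPX.Defs_m3
import Cfsg.Agent.Nodes.RGDLie
import Cfsg.Prelude.Def_KGroupFacts
import Cfsg.Agent.H27.Exc.Inst
import Cfsg.Agent.H931.KC.Alcove
import Cfsg.Agent.S1067
import Cfsg.Agent.FastGrp
import Cfsg.Agent.Prune
set_option linter.all false

-- part: H686/EX/Kill
section
set_option linter.all false
open scoped Cfsg.Agent.FastGrp

/-!
# S5745: tools for the cross rows (helper686)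

* `dead_of_pi` : the inequality `E_pi` with sum `≤ 1/2` is a contradiction;
* `relIndex_dvd_out` : `|H : N|` divides `|Out T|`;
* `card_el_le` : if `T` is of Lie type in characteristic `s` and `s ∤ |Out T|`, then `H` has at most `|T|_s ^ 2` elements
  of order `s` (Steinberg);
* `row_of` : the generic row with explicit numbers.
-/

set_option autoImplicit false

namespace Cfsg.Agent.H686.EX

open Subgroup Cfsg.Agent.H284 Cfsg.Agent.H209.EPX Cfsg.Agent.H742.EX
open Cfsg.Agent.Nodes.RGDChev (HasRGD)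

section basic

variable {G : Type*} [Group G] {H N : Subgroup G}

theorem dead_of_pi [Finite G] (hn : 3 ≤ H.index) (π : Finset ℕ) (hπ : ∀ r ∈ π, r.Prime)
    (hM : ∀ g ∉ H, ∃ r ∈ π, r ∣ Nat.card (H ⊓ cj g H : Subgroup G)) (N c : ℕ → ℕ)
    (hN : ∀ r ∈ π, (el H r).card ≤ N r) (hc0 : ∀ r ∈ π, 0 < c r)
    (hc : ∀ r ∈ π, ∀ x ∈ H, orderOf x = r → c r ≤ cG x)
    (hS : ∑ r ∈ π, ((N r : ℚ) ^ 2 / (((r : ℚ) - 1) * c r)) ≤ 1 / 2) : False := by
  have h1 := e_pi_crude H π hπ hM N c hN hc0 hc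
  have h2 : (3 : ℚ) ≤ H.index := by exact_mod_cast hn
  have h3 : (H.index : ℚ) * ∑ r ∈ π, ((N r : ℚ) ^ 2 / (((r : ℚ) - 1) * c r)) ≤ H.index * (1 / 2) :=
    mul_le_mul_of_nonneg_left hS (by linarith)
  linarith

theorem mem_of_pow (hN : NIn N H) {s : ℕ} (hs : s.Prime) (hco : ¬ s ∣ N.relIndex H) {x : G} (hx : x ∈ H)
    (hxs : x ^ s = 1) : x ∈ N := by
  have hn : (N.subgroupOf H).Normal := ⟨fun n hn g => hN.nrm g g.2 n hn⟩
  have h1 : (⟨x, hx⟩ : H) ^ (N.subgroupOf H).index ∈ N.subgroupOf H := Subgroup.pow_index_mem _ _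
  have h2 : x ^ N.relIndex H ∈ N := h1
  have h3 : Nat.Coprime s (N.relIndex H) := (Nat.Prime.coprime_iff_not_dvd hs).2 hco
  obtain ⟨u, -, hu⟩ := Nat.exists_mul_mod_eq_one_of_coprime h3.symm hs.one_lt
  have h4 : x ^ (N.relIndex H * u) = x := by
    rw [← Nat.div_add_mod (N.relIndex H * u) s, hu, pow_add, pow_mul, hxs, one_pow, one_mul, pow_one]
  rw [← h4, pow_mul]
  exact N.pow_mem h2 u

open Cfsg in
/-- `|H : N|` divides `|Out T|` -/
theorem relIndex_dvd_out {T : Type*} [Group T] (hN : NIn N H) (hc : Subgroup.centralizer (N : Set G) = ⊥) (e : N ≃* T) :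
    N.relIndex H ∣ Nat.card (Out T) := by
  have hn : (N.subgroupOf H).Normal := ⟨fun n hn g => hN.nrm g g.2 n hn⟩
  let E : N.subgroupOf H ≃* T := (Subgroup.subgroupOfEquivOfLe hN.le).trans e
  let f : H →* MulAut T := (MulAut.congr E).toMonoidHom.comp (MulAut.conjNormal (H := N.subgroupOf H))
  have hf : ∀ (g : H) (t : T), f g t = E (MulAut.conjNormal g (E.symm t)) := fun _ _ => rfl
  have h1 : (Inn T).comap f = N.subgroupOf H := by
    ext g
    rw [Subgroup.mem_comap]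
    constructor
    · rintro ⟨t, ht⟩
      have h2 : ∀ x ∈ N, ((E.symm t : N.subgroupOf H) : H) * x * ((((E.symm t : N.subgroupOf H) : H) : G))⁻¹ =
          (g : G) * x * (g : G)⁻¹ := by
        intro x hx
        have h3 := DFunLike.congr_fun ht (E ⟨⟨x, hN.le hx⟩, hx⟩)
        rw [hf, E.symm_apply_apply] at h3
        have h4 : t * E ⟨⟨x, hN.le hx⟩, hx⟩ * t⁻¹ = E (MulAut.conjNormal g ⟨⟨x, hN.le hx⟩, hx⟩) := h3
        have h5 : E (E.symm t * ⟨⟨x, hN.le hx⟩, hx⟩ * (E.symm t)⁻¹) = E (MulAut.conjNormal g ⟨⟨x, hN.le hx⟩, hx⟩) := by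
          rw [← h4, map_mul, map_mul, map_inv, E.apply_symm_apply]
        have h6 := congrArg (fun y : N.subgroupOf H => ((y : H) : G)) (E.injective h5)
        simpa [MulAut.conjNormal_apply] using h6
      have h7 : ((((E.symm t : N.subgroupOf H) : H) : G))⁻¹ * g ∈ Subgroup.centralizer (N : Set G) := by
        rw [Subgroup.mem_centralizer_iff]
        intro x hx
        have h8 := h2 x hx
        rw [mul_inv_eq_iff_eq_mul] at h8
        rw [eq_comm, mul_assoc, inv_mul_eq_iff_eq_mul, ← mul_assoc, h8]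
        group
      rw [hc, Subgroup.mem_bot, inv_mul_eq_one] at h7
      rw [Subgroup.mem_subgroupOf, ← h7]
      exact (E.symm t).2
    · intro hg
      refine ⟨E ⟨g, hg⟩, ?_⟩
      apply MulEquiv.ext
      intro t
      rw [hf]
      show E ⟨g, hg⟩ * t * (E ⟨g, hg⟩)⁻¹ = _
      have h2 : MulAut.conjNormal g (E.symm t) = ⟨g, hg⟩ * E.symm t * ⟨g, hg⟩⁻¹ := by
        apply Subtype.ext
        rw [MulAut.conjNormal_apply]
        rfl
      rw [h2, map_mul, map_mul, map_inv, E.apply_symm_apply]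
  have h2 : (N.subgroupOf H).index ∣ (Inn T).index := by
    rw [← h1, Subgroup.index_comap]
    exact Subgroup.relIndex_dvd_index_of_normal _ _
  exact h2

/-- the number of elements of order `s` of `H` (Steinberg) -/
theorem card_el_le [Finite G] {T : Type*} [Group T] [Finite T] (hN : NIn N H) (e : N ≃* T) {s : ℕ} (hs : s.Prime)
    (hco : ¬ s ∣ N.relIndex H) (hT : HasRGD s T) : (el H s).card ≤ s ^ (2 * (Nat.card T).factorization s) := by
  classical
  have := Fact.mk hs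
  rw [← Cfsg.Agent.H631.Kaw.card_pSet hT, ← Nat.card_coe_set_eq, ← Fintype.card_coe, ← Nat.card_eq_fintype_card]
  refine Nat.card_le_card_of_injective (fun x : el H s => ⟨e ⟨x.1, mem_of_pow hN hs hco (mem_el.1 x.2).1 (by
    have h := pow_orderOf_eq_one x.1
    rwa [(mem_el.1 x.2).2] at h)⟩, 1, ?_⟩) ?_
  · rw [pow_one, MulEquiv.orderOf_eq, ← Subgroup.orderOf_coe]
    exact (mem_el.1 x.2).2
  · intro x y hxy
    have h1 := congrArg Subtype.val hxy
    have h2 := congrArg Subtype.val (e.injective h1)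
    exact Subtype.ext h2

theorem card_el_le_card [Finite G] {s : ℕ} : (el H s).card ≤ Nat.card H := by
  classical
  rw [← Fintype.card_coe, ← Nat.card_eq_fintype_card]
  refine Nat.card_le_card_of_injective (fun x : el H s => (⟨x.1, (mem_el.1 x.2).1⟩ : H)) fun x y hxy => ?_
  exact Subtype.ext (congrArg (fun z : H => (z : G)) hxy)

/-- not a `2`-group -/
theorem exists_odd_prime {M : Subgroup G} [Finite G] {s : ℕ} [Fact s.Prime] (h : ¬ IsPGroup s M) :
    ∃ r, r.Prime ∧ r ≠ s ∧ r ∣ Nat.card M := by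
  by_contra hcon
  push Not at hcon
  apply h
  rw [IsPGroup.iff_card]
  refine ⟨(Nat.card M).factorization s, ?_⟩
  apply Nat.eq_pow_of_factorization_eq_single Nat.card_pos.ne'
  ext r
  by_cases hr : r = s
  · subst hr
    simp
  · rw [Finsupp.single_eq_of_ne hr]
    by_cases hrp : r.Prime
    · exact Nat.factorization_eq_zero_of_not_dvd (hcon r hrp hr)
    · exact Nat.factorization_eq_zero_of_not_prime _ hrp

end basic

section row

open Cfsg

variable {G : Type*} [Group G] [Finite G] {H N : Subgroup G} {T : Type} [Group T] {e : N ≃* (Fin 1 → T)}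

end row

end Cfsg.Agent.H686.EX
end

-- part: H373/TS/Untw
section
set_option linter.all false
open scoped Cfsg.Agent.FastGrp

/-!
# The centraliser formula for the untwisted groups (helper373)

* `bound_untw` : `H972.CS.Main.bound` for `x ∈ D.group F`, `F` finite of characteristic `r`, `x ^ s = 1`, `x ≠ 1`,
  `s ≠ r` prime;
* `le_cG` : from `|C(x)| ≤ m` and `c m ≤ |G|` to `c ≤ cG x`.
-/

set_option autoImplicit false
set_option linter.unusedSectionVars false

namespace Cfsg.Agent.H373.TS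

open CoxeterSystem Subgroup Cfsg Cfsg.Lie Cfsg.Lie.ChevalleyDatum
open Cfsg.Agent.ChevalleyStructure Cfsg.Agent.ChevalleyStructure.Elts Cfsg.Agent.ChevalleyStructure.CoxeterGeom
  Cfsg.Agent.ChevalleyStructure.CoxeterGeomTypes Cfsg.Agent.ChevalleyStructure.NPerm
open Cfsg.Agent.Nodes.RGDChev Cfsg.Agent.KFacts.RgdChevCoord Cfsg.Agent.GpExc.Field
open Cfsg.Agent.BpTab Cfsg.Agent.BpExc Cfsg.Agent.BpExc.TowChev Cfsg.Agent.BpExc.FamUntw Cfsg.Agent.BpExc.FamInst
  Cfsg.Agent.BpExc.LangFr Cfsg.Agent.BpExc.FamField Cfsg.Agent.BpExc.AsmN Cfsg.Agent.BpExc.RowsUntw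
  Cfsg.Agent.BpExc.RowsN Cfsg.Agent.BpExc.FamExt
open Cfsg.Agent.H972.CS Cfsg.Agent.H972.CS.Main Cfsg.Agent.BpExc.Pair

theorem bound_untw {D : ChevalleyDatum} {l : ℕ} {M : CoxeterMatrix (Fin l)} (hp : IsType D l M)
    {r : ℕ} [Fact r.Prime] {F : Type} [Field F] [Fintype F] [CharP F r] {n : ℕ} (hn0 : 0 < n)
    (hn : Fintype.card F = r ^ n) {d : ℕ} {B : Fin l → Fin l → ℤ} (hB : InvC D l d B) (hd : d ≠ 0)
    {s : ℕ} (hs : s.Prime) (hsr : s ≠ r) {Rf : Set ((Fin l → ℤ) →+ ZMod s)}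
    (hRf : Meets hp M.toCoxeterSystem Rf) {x : ↥(D.group F)} (hxs : x ^ s = 1) (hx1 : x ≠ 1) :
    ∃ f ∈ Rf, f ≠ 0 ∧ ∃ w : M.Group,
      Cfsg.Agent.H972.CS.Main.Pair hp M.toCoxeterSystem (AddEquiv.refl (Fin l → ℤ)) (r ^ n) s f w ∧
      ∀ Cw : Finset M.Group, Cov hp M.toCoxeterSystem (AddEquiv.refl (Fin l → ℤ)) f w Cw →
        Nat.card ↥(Subgroup.centralizer {x}) ≤
          val hp M.toCoxeterSystem (AddEquiv.refl (Fin l → ℤ)) (r ^ n) f w Cw := by
  classical
  obtain ⟨f⟩ := exists_emb r F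
  have hk : LocFin (AlgebraicClosure (ZMod r)) := locFin_of_isAlgebraic r _
  have hfin := finite_phi (D := D) (k := AlgebraicClosure (ZMod r)) (r := r) hn0
  let φ : AlgebraicClosure (ZMod r) →+* AlgebraicClosure (ZMod r) :=
    ((frb (AlgebraicClosure (ZMod r)) r n : AlgebraicClosure (ZMod r) ≃+* AlgebraicClosure (ZMod r)) :
      AlgebraicClosure (ZMod r) →+* AlgebraicClosure (ZMod r))
  have hφ : ∀ t, φ t = t ^ Fintype.card F := by
    intro t
    rw [hn]
    exact frb_apply _ r n t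
  have hσφ : ∀ y : ↥(D.group (AlgebraicClosure (ZMod r))),
      ((phi D (AlgebraicClosure (ZMod r)) r n y : ↥(D.group (AlgebraicClosure (ZMod r)))) :
        GL D.Idx (AlgebraicClosure (ZMod r))) = glMap D φ (y : GL D.Idx (AlgebraicClosure (ZMod r))) := by
    intro y
    apply Units.ext
    rfl
  have hfix : ∀ a, phi D (AlgebraicClosure (ZMod r)) r n (emb hp.inList f a) = emb hp.inList f a :=
    fun a => Emb.emb_fix hp.inList hφ hσφ a
  set σ := phi D (AlgebraicClosure (ZMod r)) r n with hσdef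
  have hinj : Function.Injective (emb hp.inList f) := emb_injective hp.inList f
  obtain ⟨z, hz⟩ := TorAll.exists_toral' hp r (y := emb hp.inList f x) hs hsr (by rw [← map_pow, hxs, map_one])
  have hfx : Finite ↥(fixC σ (emb hp.inList f x)) := by
    refine Finite.of_injective (fun y : ↥(fixC σ (emb hp.inList f x)) =>
      (⟨y.1, (mem_fixC.1 y.2).1⟩ : ↥(fixedSubgroup σ))) (fun a b hab => ?_)
    exact Subtype.ext (congrArg (fun z : ↥(fixedSubgroup σ) => z.1) hab)
  obtain ⟨g, h1, h2, w, h3, h4⟩ := bound hp M.toCoxeterSystem hk hn0 (phi_isFrob r n)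
    (phi_fr hp M.toCoxeterSystem r hk n) hB hd hs hsr hRf (x := emb hp.inList f x) (z := z) (hfix x)
    (by rw [← map_pow, hxs, map_one]) (fun h0 => hx1 (hinj (by rw [h0, map_one]))) hz rfl
  refine ⟨g, h1, h2, w, h3, fun Cw hCw => le_trans ?_ (h4 Cw hCw)⟩
  let E : ↥(Subgroup.centralizer {x}) → ↥(fixC σ (emb hp.inList f x)) := fun y =>
    ⟨emb hp.inList f y, mem_fixC.2 ⟨hfix y, by
      rw [← map_mul, ← map_mul, Subgroup.mem_centralizer_singleton_iff.1 y.2]⟩⟩
  refine Nat.card_le_card_of_injective E fun a b hab => ?_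
  apply Subtype.ext
  apply hinj
  exact congrArg (fun z : ↥(fixC σ (emb hp.inList f x)) => (z : ↥(D.group (AlgebraicClosure (ZMod r))))) hab

open Cfsg.Agent.H742.EX in
theorem le_cG {G : Type*} [Group G] [Finite G] {x : G} {c m : ℕ}
    (hm : Nat.card ↥(Subgroup.centralizer {x}) ≤ m) (hm0 : 0 < m) (h : c * m ≤ Nat.card G) : c ≤ cG x := by
  have h1 := card_G x
  have e : Nat.card {g : G // g⁻¹ * x * g = x} = Nat.card ↥(Subgroup.centralizer {x}) := by
    refine Nat.card_congr (Equiv.subtypeEquivRight fun g => ?_)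
    rw [Subgroup.mem_centralizer_singleton_iff, mul_assoc, inv_mul_eq_iff_eq_mul]
    exact eq_comm
  rw [e] at h1
  have h2 : c * m ≤ cG x * m := h.trans (by rw [h1]; exact Nat.mul_le_mul_left _ hm)
  exact Nat.le_of_mul_le_mul_right h2 hm0

end Cfsg.Agent.H373.TS
end

-- part: H373/TS/TDFour
section
set_option linter.all false
open scoped Cfsg.Agent.FastGrp

-- part: H373/TS/Twist
section
/-!
# The centraliser formula for `³D₄(q)` and `²E₆(q)` (helper373)

* `bound_gen` : `H972.CS.Main.bound` for a group embedded in the fixed points of a Frobenius frame automorphism;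
* `bound_twD4`, `bound_twE6`.
-/

set_option autoImplicit false
set_option linter.unusedSectionVars false

namespace Cfsg.Agent.H373.TS.Twist

open CoxeterSystem Subgroup Cfsg Cfsg.Lie Cfsg.Lie.ChevalleyDatum
open Cfsg.Agent.ChevalleyStructure Cfsg.Agent.ChevalleyStructure.Elts Cfsg.Agent.ChevalleyStructure.CoxeterGeom
  Cfsg.Agent.ChevalleyStructure.CoxeterGeomTypes Cfsg.Agent.ChevalleyStructure.NPerm
open Cfsg.Agent.Nodes.RGDChev Cfsg.Agent.KFacts.RgdChevCoord Cfsg.Agent.GpExc.Field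
open Cfsg.Agent.BpTab Cfsg.Agent.BpExc Cfsg.Agent.BpExc.TowChev Cfsg.Agent.BpExc.FamUntw Cfsg.Agent.BpExc.FamInst
  Cfsg.Agent.BpExc.LangFr Cfsg.Agent.BpExc.FamField Cfsg.Agent.BpExc.AsmN Cfsg.Agent.BpExc.RowsUntw
  Cfsg.Agent.BpExc.RowsN Cfsg.Agent.BpExc.FamExt Cfsg.Agent.H27.Exc
open Cfsg.Agent.H972.CS Cfsg.Agent.H972.CS.Main Cfsg.Agent.BpExc.Pair

universe u v

theorem bound_gen {D : ChevalleyDatum} {l : ℕ} {M : CoxeterMatrix (Fin l)} (hp : IsType D l M)
    {r : ℕ} [Fact r.Prime] {n : ℕ} (hn0 : 0 < n)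
    {σ : MulAut ↥(D.group (AlgebraicClosure (ZMod r)))} {g : (Fin l → ℤ) ≃+ (Fin l → ℤ)} (hσ : IsFrob r n σ)
    (Fσ : Fr.Fr M.toCoxeterSystem hp.isCartan (TT D (AlgebraicClosure (ZMod r)))
      (XX D l (AlgebraicClosure (ZMod r))) σ g)
    {d : ℕ} {B : Fin l → Fin l → ℤ} (hB : InvC D l d B) (hd : d ≠ 0) (hfin : Finite ↥(fixedSubgroup σ))
    {K₀ : Type v} [Group K₀] (ι : K₀ →* ↥(D.group (AlgebraicClosure (ZMod r)))) (hι : Function.Injective ι)
    (hfix : ∀ a, σ (ι a) = ι a) {s : ℕ} (hs : s.Prime) (hsr : s ≠ r) {Rf : Set ((Fin l → ℤ) →+ ZMod s)}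
    (hRf : Meets hp M.toCoxeterSystem Rf) {x : K₀} (hxs : x ^ s = 1) (hx1 : x ≠ 1) :
    ∃ f ∈ Rf, f ≠ 0 ∧ ∃ w : M.Group,
      Cfsg.Agent.H972.CS.Main.Pair hp M.toCoxeterSystem g (r ^ n) s f w ∧
      ∀ Cw : Finset M.Group, Cov hp M.toCoxeterSystem g f w Cw →
        Nat.card ↥(Subgroup.centralizer {x}) ≤ val hp M.toCoxeterSystem g (r ^ n) f w Cw := by
  classical
  have hk : LocFin (AlgebraicClosure (ZMod r)) := locFin_of_isAlgebraic r _
  obtain ⟨z, hz⟩ := TorAll.exists_toral' hp r (y := ι x) hs hsr (by rw [← map_pow, hxs, map_one])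
  have hfx : Finite ↥(fixC σ (ι x)) := by
    refine Finite.of_injective (fun y : ↥(fixC σ (ι x)) =>
      (⟨y.1, (mem_fixC.1 y.2).1⟩ : ↥(fixedSubgroup σ))) (fun a b hab => ?_)
    exact Subtype.ext (congrArg (fun z : ↥(fixedSubgroup σ) => z.1) hab)
  obtain ⟨f, h1, h2, w, h3, h4⟩ := bound hp M.toCoxeterSystem hk hn0 hσ Fσ hB hd hs hsr hRf (x := ι x) (z := z)
    (hfix x) (by rw [← map_pow, hxs, map_one]) (fun h0 => hx1 (hι (by rw [h0, map_one]))) hz rfl
  refine ⟨f, h1, h2, w, h3, fun Cw hCw => le_trans ?_ (h4 Cw hCw)⟩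
  let E : ↥(Subgroup.centralizer {x}) → ↥(fixC σ (ι x)) := fun y =>
    ⟨ι y, mem_fixC.2 ⟨hfix y, by rw [← map_mul, ← map_mul, Subgroup.mem_centralizer_singleton_iff.1 y.2]⟩⟩
  refine Nat.card_le_card_of_injective E fun a b hab => ?_
  apply Subtype.ext
  apply hι
  exact congrArg (fun z : ↥(fixC σ (ι x)) => (z : ↥(D.group (AlgebraicClosure (ZMod r))))) hab

open Cfsg.Agent.ChevalleyStructure.GraphSymm (symmE6 symmD4a)

/-- **`³D₄(q)`.** -/
theorem bound_twD4 {K : Type} [Field K] [Fintype K] {q r n : ℕ} [Fact r.Prime] [CharP K r]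
    (hn0 : 0 < n) (hn : q = r ^ n) (hK : Fintype.card K = q ^ 3) {s : ℕ} (hs : s.Prime) (hsr : s ≠ r)
    {Rf : Set ((Fin 4 → ℤ) →+ ZMod s)} (hRf : Meets Nodes.RGDTwD4.hp coxeterD4.toCoxeterSystem Rf)
    {x : ↥(twistedD4 K q)} (hxs : x ^ s = 1) (hx1 : x ≠ 1) :
    ∃ f ∈ Rf, f ≠ 0 ∧ ∃ w : coxeterD4.Group,
      Cfsg.Agent.H972.CS.Main.Pair Nodes.RGDTwD4.hp coxeterD4.toCoxeterSystem (TwFr.permE TwFr.rho4) q s f w ∧
      ∀ Cw : Finset coxeterD4.Group, Cov Nodes.RGDTwD4.hp coxeterD4.toCoxeterSystem (TwFr.permE TwFr.rho4) f w Cw →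
        Nat.card ↥(Subgroup.centralizer {x}) ≤
          val Nodes.RGDTwD4.hp coxeterD4.toCoxeterSystem (TwFr.permE TwFr.rho4) q f w Cw := by
  obtain ⟨f⟩ := exists_emb r K
  have hk : LocFin (AlgebraicClosure (ZMod r)) := locFin_of_isAlgebraic r _
  have hF := TwFr.isFrob_sig4 (k := AlgebraicClosure (ZMod r)) r 1 n
  have hfin : Finite ↥(fixedSubgroup (TwFr.sig4 (AlgebraicClosure (ZMod r)) r 1 n)) := Sig.finite_fixed hk hn0 hF
  have hq : IsPrimePow q := (isPrimePow_nat_iff _).2 ⟨r, n, Fact.out, hn0, hn.symm⟩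
  have hsig : ∀ g : ↥(chevD4.group (AlgebraicClosure (ZMod r))),
      ((TwFr.sig4 (AlgebraicClosure (ZMod r)) r 1 n g : ↥(chevD4.group (AlgebraicClosure (ZMod r)))) :
        GL chevD4.Idx (AlgebraicClosure (ZMod r))) =
      D4Fixed.sig ((frb (AlgebraicClosure (ZMod r)) r n :
        AlgebraicClosure (ZMod r) ≃+* AlgebraicClosure (ZMod r)) :
        AlgebraicClosure (ZMod r) →+* AlgebraicClosure (ZMod r)) (g : GL chevD4.Idx (AlgebraicClosure (ZMod r))) := by
    intro g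
    have e : TwFr.sig4 (AlgebraicClosure (ZMod r)) r 1 n =
        FamTw.Gr.gr TwFr.inListD4 symmD4a * phi chevD4 (AlgebraicClosure (ZMod r)) r n := by
      show FamTw.Gr.gr TwFr.inListD4 symmD4a ^ 1 * _ = _
      rw [pow_one]
    rw [e]
    rfl
  have hfix : ∀ a, TwFr.sig4 (AlgebraicClosure (ZMod r)) r 1 n (em4 q f a) = em4 q f a := by
    intro a
    obtain ⟨φ, hφ'⟩ := D4Fixed.exists_frob hq hK
    apply Subtype.ext
    rw [hsig]
    exact FamTw.Gr.sig_glMap symmD4a (Φ := frb (AlgebraicClosure (ZMod r)) r n)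
      (fun a => by rw [frb_apply, hφ', map_pow, hn]) (D4Fixed.twisted_le_fix hK hφ' a.2)
  have h := bound_gen Nodes.RGDTwD4.hp hn0 hF (TwFr.fr_sig4_one hk r Nodes.RGDTwD4.hp coxeterD4.toCoxeterSystem n)
    H129.TorusChar.invC_D4 (by norm_num) hfin (em4 q f) (em4_injective f) hfix hs hsr hRf hxs hx1
  rw [← hn] at h
  exact h

end Cfsg.Agent.H373.TS.Twist
end

-- part: H373/TS/Kac
section
/-!
# `|Ψ+|` by Kac coordinates (helper373)

`D` a tabulated datum of type `M`, `PL` the list of its positive roots. For `f : ℤ^l →+ ZMod s` and `w ∈ W` with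
`f ∘ w = q f` the numbers `N v = #{a : f a = v}` satisfy `N v = N (q v)`. With the alcove lemma (helper931) this is a
finite check for every prime `s`:

* `Rf` : the functionals with Kac coordinates, `meets` : they meet all orbits of `W`;
* `psi_le` : `f ∈ Rf`, `f ≠ 0`, `f ∘ w = q f` : `|Ψ+| ≤ B`, if `(tups m s).all (chk PL s q B)`.
-/

set_option autoImplicit false
set_option linter.unusedSectionVars false

namespace Cfsg.Agent.H373.TS.Kc

open CoxeterSystem Cfsg Cfsg.Lie Cfsg.Lie.ChevalleyDatum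
open Cfsg.Agent.ChevalleyStructure Cfsg.Agent.ChevalleyStructure.Elts Cfsg.Agent.ChevalleyStructure.CoxeterGeom
  Cfsg.Agent.ChevalleyStructure.CoxeterGeomTypes Cfsg.Agent.ChevalleyStructure.NPerm
open Cfsg.Agent.Tits.Roots Cfsg.Agent.Tits.Core Cfsg.Agent.Nodes Cfsg.Agent.Nodes.Reps
  Cfsg.Agent.Nodes.RGDChev
open Cfsg.Agent.H129.TorusChar Cfsg.Agent.H129.TorusMain Cfsg.Agent.H972.CS.Main Cfsg.Agent.H931.KC

/-! ### lists -/

/-- the scalar product -/
def dot : List ℕ → List ℕ → ℕ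
  | a :: as, b :: bs => a * b + dot as bs
  | _, _ => 0

/-- the lists `c` with `∑ m_i c_i ≤ n` -/
def tups : List ℕ → ℕ → List (List ℕ)
  | [], _ => [[]]
  | m :: ms, n => (List.range (n / m + 1)).flatMap fun c => (tups ms (n - m * c)).map (c :: ·)

theorem mem_tups : ∀ (m : List ℕ) (n : ℕ) (c : List ℕ), (∀ x ∈ m, 0 < x) → c.length = m.length → dot m c ≤ n →
    c ∈ tups m n
  | [], _, c, _, h1, _ => by
    rw [List.length_nil, List.length_eq_zero_iff] at h1
    rw [h1, tups]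
    exact List.mem_singleton.2 rfl
  | m :: ms, n, [], _, h1, _ => by simp at h1
  | m :: ms, n, c :: cs, h0, h1, h2 => by
    rw [dot] at h2
    have hm := h0 m (List.mem_cons_self ..)
    rw [tups, List.mem_flatMap]
    refine ⟨c, ?_, List.mem_map.2 ⟨cs, mem_tups ms _ cs (fun x hx => h0 x (List.mem_cons_of_mem _ hx)) ?_ ?_, rfl⟩⟩
    · rw [List.mem_range, Nat.lt_succ_iff, Nat.le_div_iff_mul_le hm]
      nlinarith
    · simpa using h1
    · omega

/-- the check -/
def chk (PL : List (List ℕ)) (s q B : ℕ) (c : List ℕ) : Bool :=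
  let L := PL.map fun a => dot a c % s
  decide (L.count 0 ≤ B) || c.all (fun x => x % s == 0) ||
    (List.range s).any fun v => L.count v + L.count ((s - v) % s) != L.count (q * v % s) +
      L.count ((s - q * v % s) % s)

/-- the list `PL` is the list of the positive roots -/
structure IsPL (D : ChevalleyDatum) (l : ℕ) (PL : List (List ℕ)) (m : List ℕ) : Prop where
  eq : (List.range D.nroots).map (fun s => List.ofFn (vec D l s)) =
    PL.reverse.map (List.map fun n : ℕ => -(n : ℤ)) ++ PL.map (List.map fun n : ℕ => (n : ℤ))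
  nz : ∀ p ∈ PL, ∃ x ∈ p, x ≠ 0
  len : ∀ p ∈ PL, p.length = l
  m_eq : List.ofFn (hr D l) = m.map fun n : ℕ => (n : ℤ)
  m_pos : ∀ x ∈ m, 0 < x

section

variable {D : ChevalleyDatum} {l : ℕ} {M : CoxeterMatrix (Fin l)} (hp : IsType D l M)

/-- the functionals with Kac coordinates -/
def Rf (D : ChevalleyDatum) (l s : ℕ) : Set ((Fin l → ℤ) →+ ZMod s) :=
  {f | ∃ (c : Fin l → ℕ) (c0 : ℕ), Kac D l s c c0 ∧ ∀ x, f x = ((∑ i, x i * (c i : ℤ) : ℤ) : ZMod s)}

theorem meets {s : ℕ} (hs : 0 < s) : Meets hp M.toCoxeterSystem (Rf D l s) := by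
  intro f
  have : NeZero s := ⟨hs.ne'⟩
  set b : (Fin l → ℤ) →+ ℤ := psi (fun i => ((f (sr i)).val : ℤ)) with hb
  have hbf : ∀ x, ((b x : ℤ) : ZMod s) = f x := by
    intro x
    rw [hb, psi_apply, Int.cast_sum]
    conv_rhs => rw [IsMC.eq_sum_sr x]
    rw [map_sum]
    refine Finset.sum_congr rfl fun i _ => ?_
    rw [map_zsmul, Int.cast_mul, Int.cast_natCast, ZMod.natCast_zmod_val, zsmul_eq_mul]
  obtain ⟨w, c, c0, hK, hc⟩ := exists_alcove hp hs b
  refine ⟨w, c, c0, hK, fun x => ?_⟩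
  have h1 := hc x
  rw [← ZMod.intCast_zmod_eq_zero_iff_dvd, Int.cast_sub, sub_eq_zero] at h1
  rw [h1, hbf]
  rfl

/-! ### counting -/

/-- the number of roots with value `v` -/
def cnt (D : ChevalleyDatum) (l : ℕ) {s : ℕ} (f : (Fin l → ℤ) →+ ZMod s) (v : ZMod s) : ℕ :=
  ((List.range D.nroots).map fun r => f (vec D l r)).count v

/-- `N v = N (q v)` -/
theorem cnt_mul {s q : ℕ} {f : (Fin l → ℤ) →+ ZMod s} {w : M.Group}
    (hw : ∀ y, f (rep M.toCoxeterSystem hp.isCartan w y) = q • f y) (hq : Nat.Coprime q s) (v : ZMod s) :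
    cnt D l f v = cnt D l f (q • v) := by
  classical
  have hc : ∀ v, cnt D l f v = ((Finset.range D.nroots).filter fun r => f (vec D l r) = v).card := by
    intro v
    rw [cnt, List.count_eq_countP, List.countP_map]
    show _ = (Multiset.filter _ (Multiset.range D.nroots)).card
    rw [← Multiset.countP_eq_card_filter]
    show _ = List.countP _ (List.range D.nroots)
    refine List.countP_congr fun r _ => ?_
    simp
  rw [hc, hc]
  have h1 : ∀ (u : M.Group) (r : ℕ), ∃ r', r < D.nroots → r' < D.nroots ∧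
      vec D l r' = rep M.toCoxeterSystem hp.isCartan u (vec D l r) := by
    intro u r
    by_cases hr : r < D.nroots
    · obtain ⟨r', h1, h2⟩ := (isRoot_iff hp M.toCoxeterSystem _).1 ((isRoot_vec hp M.toCoxeterSystem hr).act u)
      exact ⟨r', fun _ => ⟨h1, h2⟩⟩
    · exact ⟨0, fun h => absurd h hr⟩
  choose φ hφ using h1
  have hunit : ∀ a b : ZMod s, q • a = q • b → a = b := by
    intro a b h
    rw [nsmul_eq_mul, nsmul_eq_mul] at h
    exact (ZMod.unitOfCoprime q hq).isUnit.mul_left_cancel h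
  refine Finset.card_bij (fun r _ => φ w r) ?_ ?_ ?_
  · intro r hr
    rw [Finset.mem_filter, Finset.mem_range] at hr ⊢
    obtain ⟨h1, h2⟩ := hφ w r hr.1
    exact ⟨h1, by rw [h2, hw, hr.2]⟩
  · intro r hr r' hr' e
    rw [Finset.mem_filter, Finset.mem_range] at hr hr'
    have h1 := (hφ w r hr.1).2
    have h2 := (hφ w r' hr'.1).2
    have e' : φ w r = φ w r' := e
    rw [e', h2] at h1
    exact (vec_inj hp hr'.1 hr.1 (rep_injective_apply _ _ w h1)).symm
  · intro r hr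
    rw [Finset.mem_filter, Finset.mem_range] at hr
    obtain ⟨h1, h2⟩ := hφ w⁻¹ r hr.1
    refine ⟨φ w⁻¹ r, ?_, ?_⟩
    · rw [Finset.mem_filter, Finset.mem_range]
      refine ⟨h1, hunit _ _ ?_⟩
      rw [← hw, h2, rep_apply_inv, hr.2]
    · obtain ⟨h3, h4⟩ := hφ w (φ w⁻¹ r) h1
      refine vec_inj hp h3 hr.1 ?_
      rw [h4, h2, rep_apply_inv]

/-- the scalar product with integer lists -/
def dotZ : List ℤ → List ℕ → ℤ
  | a :: as, b :: bs => a * b + dotZ as bs
  | _, _ => 0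

omit hp in
theorem dotZ_ofFn {l : ℕ} (a : Fin l → ℤ) (b : Fin l → ℕ) : dotZ (List.ofFn a) (List.ofFn b) = ∑ i, a i * (b i : ℤ) := by
  induction l with
  | zero => simp [dotZ]
  | succ n ih => rw [List.ofFn_succ, List.ofFn_succ, dotZ, ih, Fin.sum_univ_succ]

omit hp in
theorem dotZ_cast : ∀ (a b : List ℕ), dotZ (a.map fun n : ℕ => (n : ℤ)) b = dot a b
  | [], b => by cases b <;> rfl
  | a :: as, [] => rfl
  | a :: as, b :: bs => by
    rw [List.map_cons, dotZ, dot, dotZ_cast as bs]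
    push_cast
    ring

omit hp in
theorem dotZ_neg : ∀ (a b : List ℕ), dotZ (a.map fun n : ℕ => -(n : ℤ)) b = -(dot a b : ℤ)
  | [], b => by cases b <;> rfl
  | a :: as, [] => rfl
  | a :: as, b :: bs => by
    rw [List.map_cons, dotZ, dot, dotZ_neg as bs]
    push_cast
    ring

variable {PL : List (List ℕ)} {m : List ℕ} (hPL : IsPL D l PL m)

include hPL in
omit hp in
theorem map_f {s : ℕ} {f : (Fin l → ℤ) →+ ZMod s} {c : Fin l → ℕ}
    (hf : ∀ x, f x = ((∑ i, x i * (c i : ℤ) : ℤ) : ZMod s)) :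
    ((List.range D.nroots).map fun r => f (vec D l r)) =
      (PL.reverse.map fun p => -((dot p (List.ofFn c) : ℕ) : ZMod s)) ++
        PL.map fun p => ((dot p (List.ofFn c) : ℕ) : ZMod s) := by
  have h1 : ((List.range D.nroots).map fun r => f (vec D l r)) =
      ((List.range D.nroots).map fun r => List.ofFn (vec D l r)).map
        fun L => ((dotZ L (List.ofFn c) : ℤ) : ZMod s) := by
    rw [List.map_map]
    refine List.map_congr_left fun r _ => ?_
    rw [Function.comp_apply, dotZ_ofFn, hf]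
  rw [h1, hPL.eq, List.map_append, List.map_map, List.map_map]
  congr 1
  · refine List.map_congr_left fun p _ => ?_
    rw [Function.comp_apply, dotZ_neg, Int.cast_neg, Int.cast_natCast]
  · refine List.map_congr_left fun p _ => ?_
    rw [Function.comp_apply, dotZ_cast, Int.cast_natCast]

/-- the residues of the positive roots -/
def res (PL : List (List ℕ)) (s : ℕ) (c : List ℕ) : List ℕ := PL.map fun a => dot a c % s

include hPL in
omit hp in
theorem cnt_eq {s : ℕ} {f : (Fin l → ℤ) →+ ZMod s} {c : Fin l → ℕ}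
    (hf : ∀ x, f x = ((∑ i, x i * (c i : ℤ) : ℤ) : ZMod s)) {k : ℕ} (hk : k < s) :
    cnt D l f (k : ZMod s) = (res PL s (List.ofFn c)).count k + (res PL s (List.ofFn c)).count ((s - k) % s) := by
  have hz : ((s : ℕ) : ZMod s) = 0 := ZMod.natCast_self s
  rw [cnt, map_f hPL hf, List.count_append, add_comm, List.map_reverse, List.count_reverse, res]
  congr 1
  · rw [List.count_eq_countP, List.countP_map, List.count_eq_countP, List.countP_map]
    refine List.countP_congr fun p _ => ?_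
    simp only [Function.comp_apply, beq_iff_eq]
    rw [ZMod.natCast_eq_natCast_iff', Nat.mod_eq_of_lt hk]
  · rw [List.count_eq_countP, List.countP_map, List.count_eq_countP, List.countP_map]
    refine List.countP_congr fun p _ => ?_
    simp only [Function.comp_apply, beq_iff_eq]
    rw [neg_eq_iff_eq_neg]
    have e : -((k : ℕ) : ZMod s) = ((s - k : ℕ) : ZMod s) := by
      rw [Nat.cast_sub hk.le, hz, zero_sub]
    rw [e, ZMod.natCast_eq_natCast_iff']

include hPL hp in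
/-- the positive roots killed by `f` -/
theorem psi_card {s : ℕ} {f : (Fin l → ℤ) →+ ZMod s} {c : Fin l → ℕ}
    (hf : ∀ x, f x = ((∑ i, x i * (c i : ℤ) : ℤ) : ZMod s)) :
    (H972.CS.Main.psi M.toCoxeterSystem hp.isCartan f).ncard ≤ (res PL s (List.ofFn c)).count 0 := by
  classical
  set T : Finset (List ℤ) := ((PL.filter fun p => dot p (List.ofFn c) % s = 0).map
    (List.map fun n : ℕ => (n : ℤ))).toFinset with hT
  have h1 : T.card ≤ (res PL s (List.ofFn c)).count 0 := by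
    refine (List.toFinset_card_le _).trans ?_
    rw [List.length_map, ← List.countP_eq_length_filter, res, List.count_eq_countP, List.countP_map]
    refine le_of_eq (List.countP_congr fun p _ => ?_)
    simp
  refine le_trans ?_ h1
  rw [← Set.ncard_coe_finset]
  refine Set.ncard_le_ncard_of_injOn (fun a => List.ofFn a) (fun a ha => ?_) (fun a _ b _ h => List.ofFn_injective h)
    (Finset.finite_toSet _)
  obtain ⟨h2, h3, h4⟩ := ha
  obtain ⟨r, hr, rfl⟩ := (isRoot_iff hp M.toCoxeterSystem _).1 h2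
  have h5 : List.ofFn (vec D l r) ∈ (List.range D.nroots).map fun s => List.ofFn (vec D l s) :=
    List.mem_map.2 ⟨r, List.mem_range.2 hr, rfl⟩
  rw [hPL.eq, List.mem_append, List.mem_map, List.mem_map] at h5
  rcases h5 with ⟨p, hp', e⟩ | ⟨p, hp', e⟩
  · exfalso
    rw [List.mem_reverse] at hp'
    obtain ⟨x, hx, hx0⟩ := hPL.nz p hp'
    have h6 : -(x : ℤ) ∈ List.ofFn (vec D l r) := by
      rw [← e]
      exact List.mem_map.2 ⟨x, hx, rfl⟩
    rw [List.mem_ofFn] at h6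
    obtain ⟨i, hi⟩ := h6
    have h7 := h3 i
    rw [hi] at h7
    have h8 : (0 : ℤ) ≤ -(x : ℤ) := h7
    omega
  · rw [Finset.mem_coe, hT, List.mem_toFinset, List.mem_map]
    refine ⟨p, List.mem_filter.2 ⟨hp', ?_⟩, e⟩
    rw [hf] at h4
    have h6 := dotZ_ofFn (vec D l r) c
    rw [← e, dotZ_cast] at h6
    rw [← h6, Int.cast_natCast, ZMod.natCast_eq_zero_iff] at h4
    exact decide_eq_true (Nat.mod_eq_zero_of_dvd h4)

include hPL hp in
/-- **The bound for `|Ψ+|`.** -/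
theorem psi_le {s q B : ℕ} (hs : 0 < s) (hq : Nat.Coprime q s) (hchk : (tups m s).all (chk PL s q B) = true)
    {f : (Fin l → ℤ) →+ ZMod s} (hR : f ∈ Rf D l s) (hf0 : f ≠ 0) {w : M.Group}
    (hw : ∀ y, f (rep M.toCoxeterSystem hp.isCartan w y) = q • f y) :
    (H972.CS.Main.psi M.toCoxeterSystem hp.isCartan f).ncard ≤ B := by
  obtain ⟨c, c0, hK, hf⟩ := hR
  refine (psi_card hp hPL hf).trans ?_
  have hmem : List.ofFn c ∈ tups m s := by
    refine mem_tups m s _ hPL.m_pos ?_ ?_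
    · have h1 := congrArg List.length hPL.m_eq
      rw [List.length_map, List.length_ofFn] at h1
      rw [List.length_ofFn, h1]
    · have h1 := hK.sum
      have h2 := dotZ_ofFn (hr D l) c
      rw [hPL.m_eq, dotZ_cast] at h2
      rw [← h2] at h1
      have h3 : (0 : ℤ) ≤ c0 := by positivity
      omega
  have h1 := (List.all_eq_true.1 hchk) _ hmem
  rw [chk, Bool.or_eq_true, Bool.or_eq_true] at h1
  rcases h1 with (h1 | h1) | h1
  · exact of_decide_eq_true h1
  · exfalso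
    apply hf0
    refine AddMonoidHom.ext fun x => ?_
    rw [hf]
    have h2 : ∀ i, (s : ℤ) ∣ c i := by
      intro i
      have h3 := List.all_eq_true.1 h1 (c i) (List.mem_ofFn.2 ⟨i, rfl⟩)
      exact Int.natCast_dvd_natCast.2 (Nat.dvd_of_mod_eq_zero (by simpa using h3))
    rw [AddMonoidHom.zero_apply, ZMod.intCast_zmod_eq_zero_iff_dvd]
    exact Finset.dvd_sum fun i _ => (h2 i).mul_left _
  · exfalso
    rw [List.any_eq_true] at h1
    obtain ⟨v, hv, h2⟩ := h1
    rw [List.mem_range] at hv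
    have h3 := cnt_mul hp hw hq (v : ZMod s)
    have e : q • ((v : ℕ) : ZMod s) = ((q * v % s : ℕ) : ZMod s) := by
      rw [ZMod.natCast_mod, Nat.cast_mul, nsmul_eq_mul]
    rw [e, cnt_eq hPL hf hv, cnt_eq hPL hf (Nat.mod_lt _ hs)] at h3
    exact absurd h3 (by simpa [res] using h2)

end

end Cfsg.Agent.H373.TS.Kc
end

-- part: H373/TS/D4Eval
section
/-!
# The evaluation of the centraliser formula in `³D₄(q)` (helper373)

* `D4Da`, `link` : the data of `D₄` for helper972's evaluator;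
* `okT_sound` : the bound for one `f`, with the coset of the triality kept.
-/

set_option autoImplicit false
set_option linter.unusedSectionVars false

namespace Cfsg.Agent.H373.TS.D4

open CoxeterSystem Cfsg Cfsg.Lie Cfsg.Lie.ChevalleyDatum
open Cfsg.Agent.ChevalleyStructure Cfsg.Agent.ChevalleyStructure.Elts Cfsg.Agent.ChevalleyStructure.CoxeterGeom
  Cfsg.Agent.ChevalleyStructure.CoxeterGeomTypes Cfsg.Agent.ChevalleyStructure.NPerm
open Cfsg.Agent.Tits.Roots Cfsg.Agent.Tits.Core Cfsg.Agent.Nodes Cfsg.Agent.Nodes.Reps Cfsg.Agent.Nodes.BNOf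
  Cfsg.Agent.Nodes.RGDChev Cfsg.Agent.H129.TorusChar Cfsg.Agent.H129.TorusMain Cfsg.Agent.H972.CS.Main
  Cfsg.Agent.H972.CS.Torus Cfsg.Agent.H972.CS.Eval Cfsg.Agent.H972.CS.LinkOf Cfsg.Agent.H373.TS.Kc

/-! ### the coset of `g` -/

section coset

variable {Da : Data} {D : ChevalleyDatum} {l : ℕ} {M : CoxeterMatrix (Fin l)} {hp : IsType D l M}
  {W : Type*} [Group W] {cs : CoxeterSystem M W} {B : Fin l → Fin l → ℤ}

/-- `θ cv ≡ cv'` modulo `m` -/
def chkV (Da : Data) (l : ℕ) (cv cv' : List ℤ) (m : ℤ) (V : List ℕ) : Bool :=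
  (List.range l).all fun j => (dot cv (V.map fun r => (Da.rt r).getD j 0) - cv'.getD j 0) % m == 0

theorem chkV_of {θ : (Fin l → ℤ) →+ (Fin l → ℤ)} {V : ℕ → ℕ}
    (hV : ∀ i : Fin l, V i < Da.N ∧ vl l (Da.rt (V i)) = θ (sr i)) {cv cv' : List ℤ} {m : ℤ} (hcv : cv.length = l)
    (h : ∃ y : Fin l → ℤ, θ (vl l cv) - vl l cv' = m • y) : chkV Da l cv cv' m (tup l V) = true := by
  obtain ⟨y, hy⟩ := h
  unfold chkV
  rw [List.all_eq_true]
  intro j hj
  rw [List.mem_range] at hj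
  rw [beq_iff_eq, dot_eq l cv _ hcv (by rw [List.length_map, tup_length])]
  have h1 : θ (vl l cv) = ∑ i, vl l cv i • θ (sr i) := by
    conv_lhs => rw [eq_sum_sr (vl l cv)]
    rw [map_sum]
    exact Finset.sum_congr rfl fun i _ => by rw [map_zsmul]
  have h2 : ∀ i : Fin l, vl l ((tup l V).map fun r => (Da.rt r).getD j 0) i = θ (sr i) ⟨j, hj⟩ := by
    intro i
    unfold vl
    rw [List.getD_eq_getElem?_getD, List.getElem?_map, tup, List.getElem?_map, List.getElem?_range i.2, ← (hV i).2]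
    rfl
  have h3 : ∑ i : Fin l, vl l cv i * vl l ((tup l V).map fun r => (Da.rt r).getD j 0) i = θ (vl l cv) ⟨j, hj⟩ := by
    rw [h1, Finset.sum_apply]
    exact Finset.sum_congr rfl fun i _ => by rw [h2, Pi.smul_apply, smul_eq_mul]
  rw [h3]
  have h4 := congrFun hy ⟨j, hj⟩
  rw [Pi.sub_apply, Pi.smul_apply, smul_eq_mul] at h4
  have h5 : vl l cv' ⟨j, hj⟩ = cv'.getD j 0 := rfl
  rw [← h5, h4]
  exact Int.mul_emod_right _ _

/-- the bound for one `f`, `θ` with `θ p₁ ≡ p₂` modulo `m` for all `p ∈ cvs` -/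
def okT (Da : Data) (l q : ℕ) (s : ℤ) (cvs : List (List ℤ × List ℤ)) (m : ℤ) (K : ℕ) (fl : List ℤ) : Bool :=
  (Da.ths l q s fl).all fun acc =>
    !((cvs.all fun p => chkV Da l p.1 p.2 m acc.reverse) && Da.keep (Da.psiL s fl) acc.reverse) ||
      decide (Da.value l q s fl acc.reverse ≤ K)

theorem okT_sound [Finite W] (L : Link Da hp cs B) {g : (Fin l → ℤ) ≃+ (Fin l → ℤ)}
    (hgr : ∀ a, IsRoot cs hp.isCartan a → IsRoot cs hp.isCartan (g a)) (hgi : ∀ a b, bil B (g a) (g b) = bil B a b)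
    {w : W} {q s : ℕ} (hq : 0 < q) {f : (Fin l → ℤ) →+ ZMod s} {fl : List ℤ} (hfl : fl.length = l)
    (hf : ∀ i : Fin l, f (sr i) = ((fl.getD i 0 : ℤ) : ZMod s)) (hP : Pair hp cs g q s f w) {K : ℕ}
    {cvs : List (List ℤ × List ℤ)} {m : ℤ} (hcos : ∀ p ∈ cvs, p.1.length = l ∧
      ∃ y : Fin l → ℤ, theta hp cs w g (vl l p.1) - vl l p.2 = m • y)
    (hok : okT Da l q s cvs m K fl = true) : ∃ Cw : Finset W, Cov hp cs g f w Cw ∧ val hp cs g q f w Cw ≤ K := by
  have hI : Isom hp cs B (theta hp cs w g) := by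
    refine ⟨fun a ha => (hgr a ha).act w, fun a b => ?_⟩
    rw [theta_apply, theta_apply, L.inv, hgi]
  obtain ⟨V, hV⟩ := exists_idx L hI
  obtain ⟨Cw, h1, h2⟩ := val_le L hq hfl hf hV
  refine ⟨Cw, h1, h2.trans ?_⟩
  unfold okT at hok
  rw [List.all_eq_true] at hok
  have h3 := hok (tup l V).reverse (mem_search L hI hV hfl hf (fun i => q * fl.getD i 0)
    (fun i => fl.getD i 0 % (s : ℤ) == 0) (fun i => by
      rw [hP.mul, hf, nsmul_eq_mul, Int.cast_mul, Int.cast_natCast]) (fun i hi => by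
      rw [beq_iff_eq] at hi
      refine hP.pos _ (isRoot_sr cs hp.isCartan i) ?_ ?_
      · intro j
        simp only [sr]
        by_cases h : j = i
        · subst h; simp
        · simp [h]
      · rw [hf]
        exact eq_of_mod hi))
  rw [List.reverse_reverse] at h3
  have h4 : (cvs.all fun p => chkV Da l p.1 p.2 m (tup l V)) = true := by
    rw [List.all_eq_true]
    intro p hp'
    obtain ⟨h5, h6⟩ := hcos p hp'
    exact chkV_of hV h5 h6
  have h5 : Da.keep (Da.psiL s fl) (tup l V) = true := by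
    unfold Data.keep
    rw [List.all_eq_true]
    intro X hX
    rw [decide_eq_true_iff]
    unfold Data.psiL at hX
    rw [List.mem_map] at hX
    obtain ⟨r, hr, rfl⟩ := hX
    rw [List.mem_filter, Bool.and_eq_true, beq_iff_eq, decide_eq_true_iff, List.mem_range] at hr
    obtain ⟨hr1, hr2, hr3⟩ := hr
    rw [dot_codes L hV _ (L.len r hr1)]
    have h6 := L.isr r hr1
    have h7 : 0 ≤ vl l (Da.rt r) := by
      rcases h6.pos_or_neg with h8 | h8
      · exact h8
      · exfalso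
        have h9 := ev_nonpos L h8
        rw [L.cd r hr1, dot_eq l _ _ (L.len r hr1) L.evl] at hr3
        exact absurd hr3 (not_lt.2 h9)
    have h8 : f (vl l (Da.rt r)) = 0 := by
      rw [f_vl hfl hf _ (L.len r hr1)]
      exact eq_of_mod hr2
    exact ev_nonneg L (hP.pos _ h6 h7 h8)
  rw [h4, h5] at h3
  simpa using h3

/-- vectors fixed by `W` modulo `m` -/
theorem cvi_of {cv : Fin l → ℤ} {m : ℤ} (hcv : ∀ i : Fin l, m ∣ ∑ j, cartanOf D l i j * cv j) (w : W) :
    ∃ y : Fin l → ℤ, rep cs hp.isCartan w cv - cv = m • y := by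
  induction w using cs.simple_induction_left with
  | one => exact ⟨0, by rw [map_one, smul_zero]; exact sub_self _⟩
  | mul_simple_left w i ih =>
    obtain ⟨y, hy⟩ := ih
    obtain ⟨c, hc'⟩ := hcv i
    refine ⟨refl (cartanOf D l) i y - Pi.single i c, ?_⟩
    have h6 : rep cs hp.isCartan w cv = cv + m • y := by rw [← hy]; abel
    rw [rep_mul_apply, rep_simple, h6, map_add, map_zsmul, refl_apply _ _ cv]
    have h7 : pairing (cartanOf D l) i cv = m * c := hc'
    rw [h7, smul_sub]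
    have h8 : (Pi.single i (m * c) : Fin l → ℤ) = m • (Pi.single i c : Fin l → ℤ) := by
      rw [← Pi.single_smul, smul_eq_mul]
    rw [h8]
    abel

end coset

theorem len_tups : ∀ (m : List ℕ) (n : ℕ) (c : List ℕ), c ∈ tups m n → c.length = m.length
  | [], _, c, h => by
    rw [tups, List.mem_singleton] at h
    rw [h]
  | m :: ms, n, c, h => by
    rw [tups, List.mem_flatMap] at h
    obtain ⟨a, -, h⟩ := h
    obtain ⟨c', hc', rfl⟩ := List.mem_map.1 h
    rw [List.length_cons, List.length_cons, len_tups ms _ c' hc']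

/-! ### the data of `D₄` -/

/-- the roots -/
def RtL : List (List ℤ) :=
  [[-1, -2, -1, -1], [-1, -1, -1, -1], [-1, -1, -1, 0], [-1, -1, 0, -1], [-1, -1, 0, 0], [-1, 0, 0, 0],
    [0, -1, -1, -1], [0, -1, -1, 0], [0, -1, 0, -1], [0, -1, 0, 0], [0, 0, -1, 0], [0, 0, 0, -1],
    [0, 0, 0, 1], [0, 0, 1, 0], [0, 1, 0, 0], [0, 1, 0, 1], [0, 1, 1, 0], [0, 1, 1, 1],
    [1, 0, 0, 0], [1, 1, 0, 0], [1, 1, 0, 1], [1, 1, 1, 0], [1, 1, 1, 1], [1, 2, 1, 1]]

/-- the products with the simple roots -/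
def GrL : List (List ℤ) :=
  [[0, -1, 0, 0], [-1, 1, -1, -1], [-1, 0, -1, 1], [-1, 0, 1, -1], [-1, -1, 1, 1], [-2, 1, 0, 0],
    [1, 0, -1, -1], [1, -1, -1, 1], [1, -1, 1, -1], [1, -2, 1, 1], [0, 1, -2, 0], [0, 1, 0, -2],
    [0, -1, 0, 2], [0, -1, 2, 0], [-1, 2, -1, -1], [-1, 1, -1, 1], [-1, 1, 1, -1], [-1, 0, 1, 1],
    [2, -1, 0, 0], [1, 1, -1, -1], [1, 0, -1, 1], [1, 0, 1, -1], [1, -1, 1, 1], [0, 1, 0, 0]]

def R0 : ℕ := 4091447561229111247022462172460649121599804456474177922758452374082510828339675558019775898827309423579367656868826850374474362217175498169800607862915847242264260959812640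
def R1 : ℕ := 14594637506391624397212002820292866156720553387808937937686804671188636717540071921323924288017937115977086288818369287110075427470299442567702739070337307813589095792640

/-- the data -/
def Da4 : Data where
  N := 24
  Rt := RtL
  ev := [1, 64, 4, 16]
  Cd := [-149, -85, -69, -81, -65, -1, -84, -68, -80, -64, -4, -16, 16, 4, 64, 80, 68, 84, 1, 65, 81, 69, 85, 149]
  rel := fun i j => if i = 1 ∨ j = 1 then R1 else R0
  cv := [0, 0, 1, 1]
  m := 2

def B4 : Fin 4 → Fin 4 → ℤ := ![![2, -1, 0, 0], ![-1, 2, -1, -1], ![0, -1, 2, 0], ![0, -1, 0, 2]]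

def RF : ℤ → ℕ := fun b => if b = 0 then R0 else R1

theorem all_chk : allChk RF [0, -1] 24 RtL GrL 0 = true := by decide +kernel

theorem link4 : Link Da4 RGDTwD4.hp coxeterD4.toCoxeterSystem B4 := by
  refine link_of RGDTwD4.hp coxeterD4.toCoxeterSystem Da4 B4 GrL RF [0, -1] (by decide +kernel) (by decide +kernel)
    (by decide +kernel) ?_ ?_ (by decide +kernel) (by decide +kernel) (by decide +kernel) (by decide +kernel)
    (by decide +kernel) (by decide +kernel) (by decide +kernel) all_chk (by decide +kernel) ?_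
  · decide +kernel
  · decide +kernel
  · show ∀ i : Fin 4, (2 : ℤ) ∣ ∑ j, cartanOf chevD4 4 i j * vl 4 [0, 0, 1, 1] j
    decide +kernel

/-! ### the triality -/

open Cfsg.Agent.H27.Exc Cfsg.Agent.ChevalleyStructure.GraphSymm

theorem perm_root (a : Fin 4 → ℤ) (ha : IsRoot coxeterD4.toCoxeterSystem RGDTwD4.hp.isCartan a) :
    IsRoot coxeterD4.toCoxeterSystem RGDTwD4.hp.isCartan (TwFr.permE TwFr.rho4 a) := by
  obtain ⟨r, hr, rfl⟩ := (isRoot_iff RGDTwD4.hp _ a).1 ha
  have h := TwFr.VecPerm.vec TwFr.vecPerm4 ⟨r, hr⟩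
  exact (isRoot_iff RGDTwD4.hp _ _).2 ⟨_, (symmD4a.σ ⟨r, hr⟩).2, h⟩

theorem perm_inv (a b : Fin 4 → ℤ) : bil B4 (TwFr.permE TwFr.rho4 a) (TwFr.permE TwFr.rho4 b) = bil B4 a b := by
  have h : ∀ (a : Fin 4 → ℤ) (i : Fin 4), TwFr.permE TwFr.rho4 a i = a (![3, 1, 0, 2] i) := fun a i => rfl
  unfold bil
  simp only [h, Fin.sum_univ_four]
  simp [B4]
  ring

/-- the coset conditions -/
def cvs4 : List (List ℤ × List ℤ) := [([0, 0, 1, 1], [1, 0, 0, 1]), ([1, 0, 0, 1], [1, 0, 1, 0])]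

theorem cos4 (w : coxeterD4.Group) : ∀ p ∈ cvs4, p.1.length = 4 ∧ ∃ y : Fin 4 → ℤ,
    theta RGDTwD4.hp coxeterD4.toCoxeterSystem w (TwFr.permE TwFr.rho4) (vl 4 p.1) - vl 4 p.2 = (2 : ℤ) • y := by
  intro p hp'
  have key : ∀ p ∈ cvs4, p.1.length = 4 ∧ TwFr.permE TwFr.rho4 (vl 4 p.1) = vl 4 p.2 ∧
      ∀ i : Fin 4, (2 : ℤ) ∣ ∑ j, cartanOf chevD4 4 i j * vl 4 p.2 j := by
    intro p hp'
    simp only [cvs4, List.mem_cons, List.not_mem_nil, or_false] at hp'
    rcases hp' with rfl | rfl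
    · exact ⟨rfl, by funext i; fin_cases i <;> rfl, by decide +kernel⟩
    · exact ⟨rfl, by funext i; fin_cases i <;> rfl, by decide +kernel⟩
  obtain ⟨h1, h2, h3⟩ := key p hp'
  refine ⟨h1, ?_⟩
  rw [theta_apply, h2]
  exact cvi_of (hp := RGDTwD4.hp) h3 w

end Cfsg.Agent.H373.TS.D4
end

-- part: H373/TS/D4Chk
section
/-!
# The kernel checks for `³D₄(4)` (helper373)
-/

set_option autoImplicit false

namespace Cfsg.Agent.H373.TS.D4

open Cfsg.Agent.H373.TS.Kc

/-- the invariant quadratic form -/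
def qf4 : List ℕ → ℕ
  | [a, b, c, d] => (2 * a + 2 * b + c + d) * a + (2 * a + 4 * b + 2 * c + 2 * d) * b + (a + 2 * b + 2 * c + d) * c +
      (a + 2 * b + c + 2 * d) * d
  | _ => 0

/-- the same check, only for the coordinates which are compatible with the form -/
def chkQ (q s B : ℕ) : Bool :=
  (tups [1, 2, 1, 1] s).all fun c => !Nat.beq (2 * q * q * qf4 c % s) (2 * qf4 c % s) || c.all (fun x => x % s == 0) ||
    okT Da4 4 q s cvs4 2 B (c.map fun n : ℕ => (n : ℤ))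

theorem chkQ3 : chkQ 4 3 1270080 = true := by decide +kernel
theorem chkQ5 : chkQ 4 5 1310400 = true := by decide +kernel
theorem chkQ7 : chkQ 4 7 1270080 = true := by decide +kernel
theorem chkQ13 : chkQ 4 13 811200 = true := by decide +kernel

end Cfsg.Agent.H373.TS.D4
end

-- part: H373/TS/TDFour
section
/-!
# The centralisers of the elements of order 3, 5, 7, 13 of `³D₄(4)` (S5745, helper373)

* `cent_three`, `cent_five`, `cent_seven`, `cent_thirteen` : `|C(x)| ≤ 1270080`, `1310400`, `1270080`, `811200`;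
* `cG_ge` : the classes have at least `2^35` elements.
-/

set_option autoImplicit false
set_option linter.unusedSectionVars false

namespace Cfsg.Agent.H373.TS.D4

open CoxeterSystem Cfsg Cfsg.Lie Cfsg.Lie.ChevalleyDatum
open Cfsg.Agent.ChevalleyStructure Cfsg.Agent.ChevalleyStructure.Elts Cfsg.Agent.ChevalleyStructure.CoxeterGeom
  Cfsg.Agent.ChevalleyStructure.CoxeterGeomTypes Cfsg.Agent.ChevalleyStructure.NPerm
open Cfsg.Agent.Nodes Cfsg.Agent.Nodes.RGDChev Cfsg.Agent.H972.CS.Main Cfsg.Agent.H972.CS.LinkOf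
  Cfsg.Agent.H373.TS.Kc Cfsg.Agent.H373.TS.Twist
open Cfsg.Agent.H27.Exc

/-- the functionals -/
def fls (s : ℕ) : List (List ℤ) := (tups [1, 2, 1, 1] s).map fun c => c.map fun n : ℕ => (n : ℤ)

theorem hr4 : H931.KC.hr chevD4 4 = ![1, 2, 1, 1] := by decide +kernel

theorem mem_tups4 {s : ℕ} {c : Fin 4 → ℕ} {c0 : ℕ} (h : H931.KC.Kac chevD4 4 s c c0) :
    List.ofFn c ∈ tups [1, 2, 1, 1] s := by
  refine mem_tups _ s _ (by decide) (by rw [List.length_ofFn]; rfl) ?_
  have h1 := h.sum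
  rw [hr4, Fin.sum_univ_four] at h1
  have h2 : dot [1, 2, 1, 1] (List.ofFn c) = c 0 + 2 * c 1 + c 2 + c 3 := by
    simp [List.ofFn_succ, dot]
    ring_nf
  rw [h2]
  simp at h1
  omega

theorem meets4 {s : ℕ} (hs : 0 < s) : Meets RGDTwD4.hp coxeterD4.toCoxeterSystem (RfL 4 s (fls s)) := by
  refine meets_alcove RGDTwD4.hp hs (fls s) fun c c0 h => ?_
  refine ⟨(List.ofFn c).map fun n : ℕ => (n : ℤ), List.mem_map.2 ⟨_, mem_tups4 h, rfl⟩, fun i => ?_⟩
  rw [List.getD_eq_getElem?_getD, List.getElem?_map, List.getElem?_ofFn]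
  simp

/-- the form is kept -/
theorem qf4_eq {q s : ℕ} {f : (Fin 4 → ℤ) →+ ZMod s} {w : coxeterD4.Group}
    (hP : Pair RGDTwD4.hp coxeterD4.toCoxeterSystem (TwFr.permE TwFr.rho4) q s f w) {c : List ℕ} (hc : c.length = 4)
    (hf : ∀ i : Fin 4, f (Tits.Roots.sr i) = (((c.map fun n : ℕ => (n : ℤ)).getD i 0 : ℤ) : ZMod s)) :
    2 * q * q * qf4 c % s = 2 * qf4 c % s := by
  obtain ⟨a, b, c, d, rfl⟩ : ∃ a b c' d, c = [a, b, c', d] := by
    match c, hc with
    | [a, b, c, d], _ => exact ⟨a, b, c, d, rfl⟩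
  have h1 : ∀ y : Fin 4 → ℤ, f y = ((y 0 * a + y 1 * b + y 2 * c + y 3 * d : ℤ) : ZMod s) := fun y => by
    rw [H129.TorusChar.IsMC.eq_sum_sr y, map_sum, Fin.sum_univ_four, map_zsmul, map_zsmul, map_zsmul, map_zsmul, hf, hf, hf,
      hf, ← H129.TorusChar.IsMC.eq_sum_sr y]
    simp only [zsmul_eq_mul, Int.cast_add, Int.cast_mul]
    rfl
  let u : Fin 4 → ℤ := ![2 * a + 2 * b + c + d, 2 * a + 4 * b + 2 * c + 2 * d, a + 2 * b + 2 * c + d, a + 2 * b + c + 2 * d]
  have h2 : ∀ y, H972.CS.Eval.bil B4 u y = 2 * (y 0 * a + y 1 * b + y 2 * c + y 3 * d) ∧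
      H972.CS.Eval.bil B4 y u = 2 * (y 0 * a + y 1 * b + y 2 * c + y 3 * d) := fun y => by
    have e : ∀ x y : Fin 4 → ℤ, H972.CS.Eval.bil B4 x y = x 0 * 2 * y 0 + x 0 * -1 * y 1 + x 0 * 0 * y 2 + x 0 * 0 * y 3 +
        (x 1 * -1 * y 0 + x 1 * 2 * y 1 + x 1 * -1 * y 2 + x 1 * -1 * y 3) +
        (x 2 * 0 * y 0 + x 2 * -1 * y 1 + x 2 * 2 * y 2 + x 2 * 0 * y 3) +
        (x 3 * 0 * y 0 + x 3 * -1 * y 1 + x 3 * 0 * y 2 + x 3 * 2 * y 3) := fun x y => by
      show ∑ i, ∑ j, x i * B4 i j * y j = _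
      rw [Fin.sum_univ_four, Fin.sum_univ_four, Fin.sum_univ_four, Fin.sum_univ_four, Fin.sum_univ_four]
      rfl
    rw [e, e, show u 0 = 2 * a + 2 * b + c + d from rfl, show u 1 = 2 * a + 4 * b + 2 * c + 2 * d from rfl,
      show u 2 = a + 2 * b + 2 * c + d from rfl, show u 3 = a + 2 * b + c + 2 * d from rfl]
    constructor <;> ring
  obtain ⟨y, hy⟩ : ∃ y, H129.TorusMain.theta RGDTwD4.hp coxeterD4.toCoxeterSystem w (TwFr.permE TwFr.rho4) y = u :=
    ⟨(TwFr.permE TwFr.rho4).symm (rep coxeterD4.toCoxeterSystem RGDTwD4.hp.isCartan w⁻¹ u), by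
      rw [H129.TorusMain.theta_apply, AddEquiv.apply_symm_apply, Tits.Roots.rep_apply_inv]⟩
  have h3 := link4.inv w (TwFr.permE TwFr.rho4 u) (TwFr.permE TwFr.rho4 y)
  rw [perm_inv, ← H129.TorusMain.theta_apply RGDTwD4.hp, ← H129.TorusMain.theta_apply RGDTwD4.hp, hy, (h2 _).1, (h2 _).2] at h3
  have h4 := congrArg (Int.cast : ℤ → ZMod s) h3
  rw [Int.cast_mul, Int.cast_mul, ← h1, ← h1, hP.mul] at h4
  have h5 := hP.mul y
  rw [hy] at h5
  have h6 : f u = ((qf4 [a, b, c, d] : ℕ) : ZMod s) := by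
    rw [h1, ← Int.cast_natCast (qf4 [a, b, c, d])]
    rfl
  refine (ZMod.natCast_eq_natCast_iff' _ _ _).1 ?_
  rw [nsmul_eq_mul] at h4 h5
  push_cast at h4 ⊢
  rw [← h6]
  linear_combination (q : ZMod s) * h4 - 2 * h5

/-- the bound from the check -/
theorem val_of_chkQ {q s B : ℕ} (hq : 0 < q) (hchk : chkQ q s B = true) {f : (Fin 4 → ℤ) →+ ZMod s} (h1 : f ∈ RfL 4 s (fls s))
    (h2 : f ≠ 0) {w : coxeterD4.Group}
    (h3 : Pair RGDTwD4.hp coxeterD4.toCoxeterSystem (TwFr.permE TwFr.rho4) q s f w) :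
    ∃ Cw : Finset coxeterD4.Group, Cov RGDTwD4.hp coxeterD4.toCoxeterSystem (TwFr.permE TwFr.rho4) f w Cw ∧
      val RGDTwD4.hp coxeterD4.toCoxeterSystem (TwFr.permE TwFr.rho4) q f w Cw ≤ B := by
  have hfin : Finite coxeterD4.Group := finite_W RGDTwD4.hp coxeterD4.toCoxeterSystem
  obtain ⟨fl, hfl, hf⟩ := h1
  obtain ⟨cc, hc, rfl⟩ := List.mem_map.1 hfl
  have hlen : cc.length = 4 := len_tups _ _ cc hc
  have h5 := (List.all_eq_true.1 hchk) cc hc
  rw [qf4_eq h3 hlen hf, Nat.beq_refl, Bool.not_true, Bool.false_or, Bool.or_eq_true] at h5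
  rcases h5 with h5 | h5
  · exfalso
    apply h2
    refine AddMonoidHom.ext fun y => ?_
    rw [H129.TorusChar.IsMC.eq_sum_sr y, map_sum]
    refine Finset.sum_eq_zero fun i _ => ?_
    rw [map_zsmul, hf]
    have h6 : ((cc.map fun n : ℕ => (n : ℤ)).getD i 0) = ((cc.getD i 0 : ℕ) : ℤ) := by
      rw [List.getD_eq_getElem?_getD, List.getD_eq_getElem?_getD, List.getElem?_map]
      cases cc[(i : ℕ)]? <;> rfl
    have h7 : cc.getD i 0 % s = 0 := by
      rw [List.getD_eq_getElem?_getD]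
      cases h8 : cc[(i : ℕ)]? with
      | none => simp
      | some a =>
        have h9 := List.all_eq_true.1 h5 a (List.mem_of_getElem? h8)
        simpa using h9
    rw [h6, Int.cast_natCast, (ZMod.natCast_eq_zero_iff _ _).2 (Nat.dvd_of_mod_eq_zero h7), smul_zero]
  · exact okT_sound link4 perm_root perm_inv hq (by rw [List.length_map, hlen]) hf h3 (cos4 w) h5

section

variable {K : Type} [Field K] [Fintype K]

theorem cent_le (hK : Fintype.card K = 64) {s B : ℕ} (hs : s.Prime) (hs2 : s ≠ 2) (hchk : chkQ 4 s B = true)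
    {x : ↥(twistedD4 K 4)} (hx : orderOf x = s) : Nat.card ↥(Subgroup.centralizer {x}) ≤ B := by
  classical
  have : Fact (Nat.Prime 2) := ⟨Nat.prime_two⟩
  have : CharP K 2 := by
    obtain ⟨p, hp⟩ := CharP.exists K
    obtain ⟨n, hpp, hn⟩ := FiniteField.card K p
    have h1 : p = 2 := by
      have h2 : p ∣ 64 := by
        rw [← hK, hn]
        exact dvd_pow_self p n.2.ne'
      have h3 : p ∣ 2 := hpp.dvd_of_dvd_pow (show p ∣ 2 ^ 6 by norm_num; exact h2)
      exact (Nat.prime_dvd_prime_iff_eq hpp Nat.prime_two).1 h3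
    rwa [h1] at hp
  have hfin : Finite coxeterD4.Group := finite_W RGDTwD4.hp coxeterD4.toCoxeterSystem
  obtain ⟨f, h1, h2, w, h3, h4⟩ := bound_twD4 (q := 4) (r := 2) (n := 2) (by norm_num) (by norm_num)
    (by rw [hK]; norm_num) hs hs2 (meets4 hs.pos) (x := x) (by rw [← hx, pow_orderOf_eq_one])
    (fun h => hs.one_lt.ne' (by rw [← hx, h, orderOf_one]))
  obtain ⟨Cw, h6, h7⟩ := val_of_chkQ (by norm_num) hchk h1 h2 h3
  exact (h4 Cw h6).trans h7

theorem cent_three (hK : Fintype.card K = 64) {x : ↥(twistedD4 K 4)} (hx : orderOf x = 3) :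
    Nat.card ↥(Subgroup.centralizer {x}) ≤ 1270080 := cent_le hK (by norm_num) (by norm_num) chkQ3 hx

theorem cent_five (hK : Fintype.card K = 64) {x : ↥(twistedD4 K 4)} (hx : orderOf x = 5) :
    Nat.card ↥(Subgroup.centralizer {x}) ≤ 1310400 := cent_le hK (by norm_num) (by norm_num) chkQ5 hx

theorem cent_seven (hK : Fintype.card K = 64) {x : ↥(twistedD4 K 4)} (hx : orderOf x = 7) :
    Nat.card ↥(Subgroup.centralizer {x}) ≤ 1270080 := cent_le hK (by norm_num) (by norm_num) chkQ7 hx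

theorem card_G (hK : Fintype.card K = 64) : Nat.card ↥(twistedD4 K 4) =
    4 ^ 12 * (4 ^ 2 - 1) * (4 ^ 6 - 1) * (4 ^ 8 + 4 ^ 4 + 1) :=
  S1067.result (q := 4) ((isPrimePow_nat_iff _).2 ⟨2, 2, Nat.prime_two, by norm_num, by norm_num⟩)
    (by rw [hK]; norm_num)

open Cfsg.Agent.H742.EX

end

end Cfsg.Agent.H373.TS.D4
end

private theorem dce_c52045c837a7 : _root_.True := by
  try have : _root_.True := by simp only [_root_.Cfsg.Agent.H373.TS.Kc.dot._sparseCasesOn_1.else_eq]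
  try have : _root_.True := by simp only [_root_.Cfsg.Agent.H373.TS.D4.B4.eq_1]
  try have : _root_.True := by simp only [_root_.Cfsg.Agent.H373.TS.Kc.chk.eq_1]
  try have : _root_.True := by simp only [_root_.Cfsg.Agent.H373.TS.Kc.cnt.eq_1]
  try have : _root_.True := by simp only [_root_.Cfsg.Agent.H373.TS.Kc.tups.eq_def]
  try have : _root_.True := by simp only [_root_.Cfsg.Agent.H373.TS.Kc.dot.eq_1]
  try have : _root_.True := by simp only [_root_.Cfsg.Agent.H373.TS.Kc.dot.eq_2]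
  try have : _root_.True := by simp only [_root_.Cfsg.Agent.H373.TS.Kc.dotZ.eq_1]
  try have : _root_.True := by simp only [_root_.Cfsg.Agent.H373.TS.D4.cvs4.eq_1]
  try have : _root_.True := by simp only [_root_.Cfsg.Agent.H373.TS.Kc.dotZ.eq_def]
  try have : _root_.True := by simp only [_root_.Cfsg.Agent.H373.TS.Kc.dotZ.eq_2]
  try have : _root_.True := by simp only [_root_.Cfsg.Agent.H373.TS.Kc.dot.eq_def]
  try have : _root_.True := by simp only [_root_.Cfsg.Agent.H373.TS.Kc.tups.eq_1]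
  try have : _root_.True := by simp only [_root_.Cfsg.Agent.H373.TS.Kc.tups.eq_2]
  try have : _root_.True := by simp only [_root_.Cfsg.Agent.H373.TS.Kc.res.eq_1]
  exact _root_.True.intro
end
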